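import Cfsg.Agent.H844.Ore.BReal
import Cfsg.Agent.H493.NB.BabyThree
import Cfsg.Agent.H588.Ore.FiPair
import Cfsg.Agent.FastGrp
import Cfsg.Agent.Prune
set_option linter.all false
prune_inst 0x7f00000000000000000000000000000000000000000000000000000000000000000000000000000000000000000000000000000000000000000000000000000000000000000000000000000000000000003fffffffffffffffffffffffffffbeffbdffffffff
open scoped Cfsg.Agent.FastGrp

/-!
# Row B of S2465: elements of type 3A commuting with a 2-element (helper773)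

* `conj_z` : `x` of order 3 in the Monster with `C(x)/⟨x⟩ ≅ Fi24'`; an involution of `C(x)` over a product of four
  commuting transpositions is conjugate to `z`; `ta_of_pair` : over a product of two it is of class 2A;
* `exists_fixed_pair` : a 2-element of `C(ab)` in `Fi24'` fixes or swaps two commuting transpositions of `C(a, b)`;
* `exists_two` : `s` of type 3A in the Baby Monster, `t` a 2-element commuting with `s`: a 2B involution commutes with
  `s` and `t`.
-/

set_option autoImplicit false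
set_option maxRecDepth 100000

namespace Cfsg.Agent.H773.PwB

open Cfsg Cfsg.Agent Cfsg.Agent.MonsterX Cfsg.Agent.MonsterX.InstData Cfsg.Agent.MonsterX.MainPack Cfsg.Agent.MonsterU
open Cfsg.Agent.MonsterP Cfsg.Agent.MonsterN Cfsg.Agent.LThree Cfsg.Agent.LThreeMB
open Cfsg.Agent.MonsterX.MainBasic Cfsg.Agent.MonsterX.MainSimple Cfsg.Agent.MonsterX.Model
open Subgroup (centralizer mem_centralizer_singleton_iff center card_dvd_of_le zpowers)
open Cfsg.Agent.H630.Baby
open Cfsg.Agent.R08 Cfsg.Agent.R08.FiTwentyFour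
open Cfsg.Agent.R08.TetFi24A (At Nb)
open Cfsg.Spor (Fi24)
open Cfsg.Agent.H844.Ore (FiType FiB TwoB)

universe u

/-- the order of the image of an involution -/
theorem order_mk {G : Type*} [Group G] {x t : G} (hx : orderOf x = 3) (htx : t * x = x * t) (htt : t * t = 1)
    (ht1 : t ≠ 1) : orderOf (mk x htx) = 2 := by
  have : Fact (Nat.Prime 2) := ⟨Nat.prime_two⟩
  refine orderOf_eq_prime ?_ ?_
  · rw [pow_two]
    have h6 : (t * t) * x = x * (t * t) := by rw [htt, one_mul, mul_one]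
    show mk x h6 = 1
    rw [mk_eq_one]
    exact ⟨0, by rw [zpow_zero, htt]⟩
  · intro h6
    obtain ⟨i, hi⟩ := (mk_eq_one htx).1 h6
    have h7 : orderOf t ∣ 3 := by
      rw [← hi, ← hx]
      exact orderOf_dvd_of_pow_eq_one (by
        rw [← zpow_natCast, ← zpow_mul, mul_comm, zpow_mul, zpow_natCast, pow_orderOf_eq_one, one_zpow])
    have h8 : orderOf t ∣ 2 := orderOf_dvd_of_pow_eq_one (by rw [pow_two, htt])
    have h9 := Nat.dvd_gcd h7 h8
    rw [show Nat.gcd 3 2 = 1 by norm_num, Nat.dvd_one, orderOf_eq_one_iff] at h9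
    exact ht1 h9

/-- products -/
theorem mk_mul {G : Type*} [Group G] {x s t u : G} (hs : s * x = x * s) (ht : t * x = x * t) (hu : u * x = x * u)
    (e : s * t = u) : mk x hs * mk x ht = mk x hu := by
  subst e
  rfl

/-- conjugates of `z` -/
theorem not_dvd_conj {g t : Mon} (hg : g * KDone.K.z * g⁻¹ = t) : ¬ 3 ^ 10 ∣ Nat.card ↥(centralizer ({t} : Set Mon)) := by
  intro h
  rw [Cfsg.Agent.Blocks.SylowIn.card_centralizer_of_isConj (isConj_iff.2 ⟨g, hg⟩ : IsConj KDone.K.z t)] at h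
  exact H493.NB.not_dvd_z h

/-- **Over a product of two commuting transpositions**: class 2A. -/
theorem ta_of_pair {x : Mon} (hx : orderOf x = 3) (F : XX x ≃* Spor.Fi24') {a b : Fi24} (P : At a b) {v : Mon}
    (hvx : v * x = x * v) (hvv : v * v = 1) (hv1 : v ≠ 1) (h : ((F (mk x hvx) : Spor.Fi24') : Fi24) = a * b) :
    LThreeB.Row.TA v := by
  rcases MFive.Row.two v hvv hv1 with ⟨g, hg⟩ | h1
  · exfalso
    exact not_dvd_conj hg (H493.NB.pow_dvd hx F P h hvx hvv rfl)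
  · exact isConj_iff.2 h1

/-- **Over a product of four commuting transpositions**: conjugate to `z`. -/
theorem conj_z {x t₀ : Mon} (hx : orderOf x = 3) (ht₀ : LThreeB.Row.TA t₀) (hxt : x * t₀ = t₀ * x)
    (F : XX x ≃* Spor.Fi24') {w : Mon} (hwx : w * x = x * w) (hww : w * w = 1) {g : Spor.Fi24'}
    (hg : F (mk x hwx) = g * CTwoTab.FiTF.z0 * g⁻¹) : IsConj KDone.K.z w := by
  obtain ⟨k, hk, -⟩ := LThreeM.FiRow.exists_z_in (x := x) (v := t₀) (by rw [← hx, pow_orderOf_eq_one]) ht₀ hxt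
  obtain ⟨w₁, hw₁⟩ : ∃ w₁, k * KDone.K.z * k⁻¹ = w₁ := ⟨_, rfl⟩
  rw [hw₁] at hk
  have hzz : KDone.K.z * KDone.K.z = 1 := H979.BAdj.chart.large.z_sq
  have hw₁w₁ : w₁ * w₁ = 1 := by
    rw [← hw₁]
    calc k * KDone.K.z * k⁻¹ * (k * KDone.K.z * k⁻¹) = k * (KDone.K.z * KDone.K.z) * k⁻¹ := by group
      _ = 1 := by rw [hzz]; group
  have hw₁1 : w₁ ≠ 1 := by
    intro h1
    rw [h1, conj_eq_one_iff] at hw₁
    exact H979.BAdj.chart.large.z_ne hw₁
  rcases CTwoTab.FiTF.classes (F (mk x hk)) (by rw [MulEquiv.orderOf_eq, order_mk hx hk hw₁w₁ hw₁1]) with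
    ⟨a, b, P, h6⟩ | ⟨g', hg'⟩
  · exact absurd (H493.NB.pow_dvd hx F P h6 hk hw₁w₁ rfl) (not_dvd_conj hw₁)
  · have h7 : IsConj (F (mk x hk)) (F (mk x hwx)) := by
      rw [hg', hg]
      exact isConj_iff.2 ⟨g * g'⁻¹, by group⟩
    have h8 : IsConj (mk x hk) (mk x hwx) := by
      have h9 := F.symm.toMonoidHom.map_isConj h7
      have e1 : F.symm.toMonoidHom (F (mk x hk)) = mk x hk := F.symm_apply_apply _
      have e2 : F.symm.toMonoidHom (F (mk x hwx)) = mk x hwx := F.symm_apply_apply _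
      rwa [e1, e2] at h9
    exact (isConj_iff.2 ⟨k, hw₁⟩ : IsConj KDone.K.z w₁).trans
      (H844.Ore.BThree.isConj_of_mk hx hk hwx hw₁w₁ hww h8)

/-! ### Pairs of transpositions -/

section pairs

variable {a b : Fi24} (P : At a b)

/-- elements fixing or swapping `a`, `b` -/
def FS (a b q : Fi24) : Prop := (q * a * q⁻¹ = a ∧ q * b * q⁻¹ = b) ∨ (q * a * q⁻¹ = b ∧ q * b * q⁻¹ = a)

omit P in
theorem nb_conj {q c : Fi24} (hq : FS a b q) (h : Nb a b c) : Nb a b (q * c * q⁻¹) := by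
  have hm : ∀ {u v : Fi24}, Commute u v → Commute (q * u * q⁻¹) (q * v * q⁻¹) := fun h => by
    have := h.map (MulAut.conj q).toMonoidHom
    exact this
  have hi : ∀ {u v : Fi24}, u ≠ v → q * u * q⁻¹ ≠ q * v * q⁻¹ := fun h h1 => h (by
    have := mul_right_cancel h1
    exact mul_left_cancel this)
  rcases hq with ⟨h1, h2⟩ | ⟨h1, h2⟩
  · refine ⟨FiTwentyFour.conj h.hc q, ?_, ?_, ?_, ?_⟩
    · rw [← h1]; exact hm h.ca
    · rw [← h2]; exact hm h.cb
    · rw [← h1]; exact hi h.na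
    · rw [← h2]; exact hi h.nb
  · refine ⟨FiTwentyFour.conj h.hc q, ?_, ?_, ?_, ?_⟩
    · rw [← h2]; exact hm h.cb
    · rw [← h1]; exact hm h.ca
    · rw [← h2]; exact hi h.nb
    · rw [← h1]; exact hi h.na

/-- the transpositions of `C(a, b)` and those of `Fi22` -/
noncomputable def eNb : {c : Fi24 // Nb a b c} ≃ R01.Fi22Facts.T :=
  Equiv.ofBijective (fun c => ⟨P.π (P.x c.2), P.π_mem c.2⟩) (by
    constructor
    · intro c d h
      exact Subtype.ext (P.x_eq c.2 d.2 (congrArg Subtype.val h))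
    · rintro ⟨t, ht⟩
      obtain ⟨c, h, e⟩ := P.exists_x ht
      exact ⟨⟨c, h⟩, Subtype.ext e⟩)

include P in
/-- **A 2-group of elements fixing or swapping `a`, `b` fixes a pair of commuting transpositions of `C(a, b)`.** -/
theorem exists_fixed_pair (Q : Subgroup Fi24) [Finite Q] (hQ : IsPGroup 2 Q) (h : ∀ q ∈ Q, FS a b q) :
    ∃ c d : Fi24, Nb a b c ∧ Nb a b d ∧ c ≠ d ∧ Commute c d ∧ ∀ q ∈ Q, FS c d q := by
  let i1 : MulAction Q {c : Fi24 // Nb a b c} :=
    { smul := fun q c => ⟨(q : Fi24) * c * (q : Fi24)⁻¹, nb_conj (h q q.2) c.2⟩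
      one_smul := fun c => Subtype.ext (by
        show (1 : Fi24) * (c : Fi24) * (1 : Fi24)⁻¹ = c
        group)
      mul_smul := fun q r c => Subtype.ext (by
        show ((q : Fi24) * r) * (c : Fi24) * ((q : Fi24) * r)⁻¹ = (q : Fi24) * ((r : Fi24) * c * (r : Fi24)⁻¹) * (q : Fi24)⁻¹
        group) }
  let i2 : MulAction Q R01.Fi22Facts.T := Equiv.mulAction Q (eNb P).symm
  have hs : ∀ (q : Q) (t : R01.Fi22Facts.T), q • t = eNb P (q • (eNb P).symm t) := fun q t => rfl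
  have hcm : ∀ c d : {c : Fi24 // Nb a b c}, Commute ((eNb P c : R01.Fi22Facts.T) : Spor.Fi22) (eNb P d) ↔
      Commute (c : Fi24) d := fun c d => P.comm_iff c.2 d.2
  obtain ⟨a', ha', b', hb', hne, hcomm, hfix⟩ := H588.Ore.exists_pair (Q := Q) hQ (by
    intro q s t hst
    obtain ⟨c, rfl⟩ := (eNb P).surjective s
    obtain ⟨d, rfl⟩ := (eNb P).surjective t
    rw [hs, hs, Equiv.symm_apply_apply, Equiv.symm_apply_apply, hcm]
    rw [hcm] at hst
    exact hst.map (MulAut.conj (q : Fi24)).toMonoidHom)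
  obtain ⟨c, hc⟩ := (eNb P).surjective ⟨a', ha'⟩
  obtain ⟨d, hd⟩ := (eNb P).surjective ⟨b', hb'⟩
  refine ⟨c, d, c.2, d.2, ?_, ?_, ?_⟩
  · intro h1
    have h2 : c = d := Subtype.ext h1
    rw [h2, hd] at hc
    exact hne (congrArg Subtype.val hc).symm
  · rw [← hcm, hc, hd]
    exact hcomm
  · intro q hq
    have h2 := hfix ha' hb' ⟨q, hq⟩
    rw [← hc, ← hd, hs, hs, Equiv.symm_apply_apply, Equiv.symm_apply_apply] at h2
    have e : ∀ u v : {c : Fi24 // Nb a b c}, ((eNb P ((⟨q, hq⟩ : Q) • u) : R01.Fi22Facts.T) : Spor.Fi22) =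
        ((eNb P v : R01.Fi22Facts.T) : Spor.Fi22) → q * (u : Fi24) * q⁻¹ = v := by
      intro u v h3
      have h4 := (eNb P).injective (Subtype.ext h3)
      exact congrArg Subtype.val h4
    rcases h2 with ⟨h3, h4⟩ | ⟨h3, h4⟩
    · left
      refine ⟨e c c ?_, e d d ?_⟩
      · rw [h3, hc]
      · rw [h4, hd]
    · right
      refine ⟨e c d ?_, e d c ?_⟩
      · rw [h3, hd]
      · rw [h4, hc]

end pairs

/-! ### The 2B involution -/

/-- **`s` of type 3A in the Baby Monster, `t` a 2-element commuting with `s`**: a 2B involution commutes with both. -/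
theorem exists_two {L : Type u} [Group L] {s t : L} (h : FiB s) {n : ℕ} (ht : t ^ 2 ^ n = 1) (hts : t * s = s * t) :
    ∃ u : L, TwoB u ∧ u * s = s * u ∧ u * t = t * u := by
  have hfin : Finite Mon := MThirteen.Row.finite
  obtain ⟨t₀, hta, h2, e, x, hx, rfl, hxt, f, a, b, P, hab⟩ := h
  have hto := MThirteen.Row.ta_order hta
  have htt : t₀ * t₀ = 1 := by rw [← pow_two, ← hto, pow_orderOf_eq_one]
  obtain ⟨q, hq⟩ := e.surjective t
  obtain ⟨t', rfl⟩ := QuotientGroup.mk_surjective q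
  have hx3 : x ^ 3 = 1 := by rw [← hx, pow_orderOf_eq_one]
  have hxM : orderOf (x : Mon) = 3 := by rw [Subgroup.orderOf_coe, hx]
  -- `t'` commutes with `x`
  have h3 : (QuotientGroup.mk x : ↥(centralizer ({t₀} : Set Mon)) ⧸ center ↥(centralizer ({t₀} : Set Mon))) *
      QuotientGroup.mk t' = QuotientGroup.mk t' * QuotientGroup.mk x := by
    apply e.injective
    rw [map_mul, map_mul, hq]
    exact hts.symm
  have h4 := H979.CovLift.lift_comm (Z := center ↥(centralizer ({t₀} : Set Mon))) le_rfl h2 (by decide : Odd 3) hx3 h3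
  have htx : (t' : Mon) * x = x * t' := (congrArg Subtype.val h4).symm
  have htt₀ : (t' : Mon) * t₀ = t₀ * t' := mem_centralizer_singleton_iff.1 t'.2
  -- its image `τ` in `Fi24'`
  obtain ⟨τ, hτ⟩ : ∃ τ : Spor.Fi24', f (mk (x : Mon) htx) = τ := ⟨_, rfl⟩
  obtain ⟨z, hz⟩ : ∃ z : Spor.Fi24', f (mk (x : Mon) hxt) = z := ⟨_, rfl⟩
  rw [hz] at hab
  have hτz : τ * z = z * τ := by
    have h5 : (t' : Mon) * t₀ * x = x * (t' * t₀) := by rw [mul_assoc, hxt, ← mul_assoc, htx, mul_assoc]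
    rw [← hτ, ← hz, ← map_mul, ← map_mul, mk_mul htx hxt h5 rfl, mk_mul hxt htx h5 htt₀.symm]
  have hpow : ∀ m : ℕ, ∀ hm : ((t' : Mon) ^ m) * x = x * (t' : Mon) ^ m, f (mk (x : Mon) hm) = τ ^ m := by
    intro m
    induction m with
    | zero =>
      intro hm
      rw [show τ ^ 0 = 1 from pow_zero τ, ← map_one f]
      congr 1
    | succ m ih =>
      intro hm
      have h5 : ((t' : Mon) ^ m) * x = x * (t' : Mon) ^ m := ((show Commute (t' : Mon) x from htx).pow_left m).eq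
      rw [show τ ^ (m + 1) = τ ^ m * τ from pow_succ τ m, ← ih h5, ← hτ, ← map_mul,
        mk_mul h5 htx hm (pow_succ _ _).symm]
  have hτ2 : τ ^ 2 ^ (n + 1) = 1 := by
    have h5 : (QuotientGroup.mk (t' ^ 2 ^ n) : ↥(centralizer ({t₀} : Set Mon)) ⧸ center ↥(centralizer ({t₀} : Set Mon))) =
        1 := by
      apply e.injective
      rw [map_one, ← ht, ← hq, ← map_pow]
      rfl
    have h6 := (QuotientGroup.eq_one_iff _).1 h5
    have h7 : (t' ^ 2 ^ n) ^ 2 = 1 := by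
      have h8 : (⟨_, h6⟩ : ↥(center ↥(centralizer ({t₀} : Set Mon)))) ^ Nat.card ↥(center ↥(centralizer ({t₀} : Set Mon))) =
        1 := pow_card_eq_one'
      rw [h2] at h8
      exact congrArg Subtype.val h8
    rw [← pow_mul, ← pow_succ] at h7
    have h8 : (t' : Mon) ^ 2 ^ (n + 1) = 1 := congrArg Subtype.val h7
    have h9 : (t' : Mon) ^ 2 ^ (n + 1) * x = x * (t' : Mon) ^ 2 ^ (n + 1) := by rw [h8, one_mul, mul_one]
    rw [← hpow _ h9, ← map_one f]
    congr 1
    rw [mk_eq_one]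
    exact ⟨0, by rw [zpow_zero, h8]⟩
  -- the fixed pair
  have hfQ : Finite Fi24 := finite_Fi24
  have hpQ : IsPGroup 2 ↥(zpowers (τ : Fi24)) := by
    have h5 : (τ : Fi24) ^ 2 ^ (n + 1) = 1 := congrArg Subtype.val hτ2
    obtain ⟨m, -, hm⟩ := (Nat.dvd_prime_pow Nat.prime_two).1 (orderOf_dvd_of_pow_eq_one h5)
    exact IsPGroup.of_card (n := m) (by rw [Nat.card_zpowers, hm])
  obtain ⟨c, d, hc, hd, hcd, hccd, hfs⟩ := exists_fixed_pair P (zpowers (τ : Fi24)) hpQ (by
    rintro _ ⟨k, rfl⟩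
    refine CTwoTab.FiTF.fix_or_swap P (t := z) (x := τ ^ k) hab ?_
    rw [mem_centralizer_singleton_iff]
    exact ((show Commute τ z from hτz).zpow_left k).eq)
  obtain ⟨P'⟩ := TetFi24A.exists_at hc.hc hd.hc hcd hccd
  obtain ⟨Y, hY⟩ : ∃ Y : Spor.Fi24', (Y : Fi24) = c * d := ⟨⟨c * d, FiTwentyFour.even hc.hc hd.hc⟩, rfl⟩
  have hYY : Y * Y = 1 := by
    apply Subtype.ext
    show (Y : Fi24) * (Y : Fi24) = 1
    rw [hY]
    calc c * d * (c * d) = c * (d * c) * d := by group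
      _ = c * (c * d) * d := by rw [hccd.eq]
      _ = (c * c) * (d * d) := by group
      _ = 1 := by rw [FiTwentyFour.sq hc.hc, FiTwentyFour.sq hd.hc, one_mul]
  have hY1 : Y ≠ 1 := by
    intro h1
    apply hcd
    have h5 : c * d = 1 := by rw [← hY, h1]; rfl
    rw [eq_comm, ← mul_right_inj c, h5, FiTwentyFour.sq hc.hc]
  obtain ⟨v, hvx, hvv, hu⟩ := H493.NB.exists_lift hxM (u := f.symm Y) (by rw [← map_mul, hYY, map_one])
  have hfv : f (mk (x : Mon) hvx) = Y := by rw [hu, f.apply_symm_apply]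
  have hv1 : v ≠ 1 := by
    rintro rfl
    apply hY1
    rw [← hfv, ← map_one f]
    congr 1
  have htv : LThreeB.Row.TA v := ta_of_pair hxM f P' hvx hvv hv1 (by rw [hfv, hY])
  -- commutation
  have hYz : Y * z = z * Y := by
    apply Subtype.ext
    show (Y : Fi24) * (z : Fi24) = (z : Fi24) * (Y : Fi24)
    rw [hY, hab]
    exact ((hc.ca.mul_right hc.cb).mul_left (hd.ca.mul_right hd.cb)).eq
  have hYτ : Y * τ = τ * Y := by
    apply Subtype.ext
    show (Y : Fi24) * (τ : Fi24) = (τ : Fi24) * (Y : Fi24)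
    rw [hY]
    have h5 : (τ : Fi24) * (c * d) * (τ : Fi24)⁻¹ = c * d := by
      have h6 : (τ : Fi24) * (c * d) * (τ : Fi24)⁻¹ = ((τ : Fi24) * c * (τ : Fi24)⁻¹) * ((τ : Fi24) * d * (τ : Fi24)⁻¹) := by
        group
      rw [h6]
      rcases hfs _ (Subgroup.mem_zpowers _) with ⟨h7, h8⟩ | ⟨h7, h8⟩
      · rw [h7, h8]
      · rw [h7, h8, hccd.eq]
    exact (mul_inv_eq_iff_eq_mul.1 h5).symm
  have hvt₀ : v * t₀ = t₀ * v := H493.NB.comm_of_mk (by decide : Odd 3) hxM hvx hxt htt (by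
    apply f.injective
    rw [map_mul, map_mul, hfv, hz, hYz])
  have hvt' : (t' : Mon) * v = v * t' := H493.NB.comm_of_mk (by decide : Odd 3) hxM htx hvx hvv (by
    apply f.injective
    rw [map_mul, map_mul, hfv, hτ, hYτ])
  -- the involution `w = v t₀`
  obtain ⟨w, hw⟩ : ∃ w : Mon, w = v * t₀ := ⟨_, rfl⟩
  have hww : w * w = 1 := by
    rw [hw]
    calc v * t₀ * (v * t₀) = v * (t₀ * v) * t₀ := by group
      _ = v * (v * t₀) * t₀ := by rw [hvt₀]
      _ = (v * v) * (t₀ * t₀) := by group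
      _ = 1 := by rw [hvv, htt, one_mul]
  have hwt₀ : w * t₀ = v := by rw [hw, mul_assoc, htt, mul_one]
  have hwt : w * t₀ = t₀ * w := by
    rw [hw, mul_assoc, ← mul_assoc t₀, ← hvt₀, mul_assoc]
  have hwt' : (t' : Mon) * w = w * t' := by
    rw [hw, ← mul_assoc, hvt', mul_assoc, htt₀, mul_assoc]
  have hwx : w * (x : Mon) = x * w := by
    rw [hw, mul_assoc, hxt, ← mul_assoc, hvx, mul_assoc]
  have hfw : f (mk (x : Mon) hwx) = Y * z := by
    rw [← hfv, ← hz, ← map_mul, mk_mul hvx hxt hwx hw.symm]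
  have htet : TetTwo.IsTet FiTwentyFour.L ((f (mk (x : Mon) hwx) : Spor.Fi24') : Fi24) a b c d :=
    { ha := P.ha, hb := P.hb, hc := hc.hc, hd := hd.hc, ab := P.ab, ac := hc.ca.symm, ad := hd.ca.symm,
      bc := hc.cb.symm, bd := hd.cb.symm, cd := hccd, nab := P.ne, nac := hc.na.symm, nad := hd.na.symm,
      nbc := hc.nb.symm, nbd := hd.nb.symm, ncd := hcd
      prod := by
        rw [hfw]
        show a * b * c * d = (Y : Fi24) * (z : Fi24)
        rw [hY, hab]
        have h5 : Commute (a * b) (c * d) :=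
          (hc.ca.symm.mul_left hc.cb.symm).mul_right (hd.ca.symm.mul_left hd.cb.symm)
        rw [mul_assoc (a * b), h5.eq] }
  obtain ⟨g, hg⟩ := CTwoTab.FiTF.conj_tet htet
  have hzw : IsConj KDone.K.z w := conj_z hxM hta hxt.symm f hwx hww hg
  refine ⟨e (QuotientGroup.mk ⟨w, mem_centralizer_singleton_iff.2 hwt⟩),
    ⟨t₀, hta, h2, e, ⟨w, mem_centralizer_singleton_iff.2 hwt⟩, hww, hzw, by rw [hwt₀]; exact htv, rfl⟩, ?_, ?_⟩
  · rw [← map_mul, ← map_mul]
    congr 1
    have e1 : (⟨w, mem_centralizer_singleton_iff.2 hwt⟩ : ↥(centralizer ({t₀} : Set Mon))) * x =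
        x * (⟨w, mem_centralizer_singleton_iff.2 hwt⟩ : ↥(centralizer ({t₀} : Set Mon))) := Subtype.ext hwx
    rw [← QuotientGroup.mk_mul, e1, QuotientGroup.mk_mul]
  · rw [← hq, ← map_mul, ← map_mul]
    congr 1
    have e1 : (⟨w, mem_centralizer_singleton_iff.2 hwt⟩ : ↥(centralizer ({t₀} : Set Mon))) * t' =
        t' * (⟨w, mem_centralizer_singleton_iff.2 hwt⟩ : ↥(centralizer ({t₀} : Set Mon))) := Subtype.ext hwt'.symm
    rw [← QuotientGroup.mk_mul, e1, QuotientGroup.mk_mul]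

end Cfsg.Agent.H773.PwB
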