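import Cfsg.Agent.H493.NB.BabyThree
import Cfsg.Agent.H588.SN.FiTab
import Cfsg.Agent.H588.SN.FiFix_m3
import Cfsg.Agent.H649.PwSp.Corner_m3
import Cfsg.Agent.H588.SN.FiTT
import Cfsg.Agent.H588.Ore.FiPair
import Cfsg.Agent.H773.PwB.FiTwo
import Cfsg.Agent.H715.Mon.Norm_m3
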